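import Groth.Agent.AlgGrp.K192.LangFin
import Groth.Agent.Sga3B.CellDim
import Groth.Prelude.Def_AGF

/-!
# Fixed points of an endomorphism on a homogeneous space
-/

set_option autoImplicit false
universe u
open CategoryTheory MonoidalCategory CartesianMonoidalCategory AlgebraicGeometry
open scoped MonObj

namespace K192.FixCount

open Groth.Agent.Books.AlgPts K192.LangFin

variable (k : Type u) [Field k] [IsAlgClosed k]

theorem main (G H : Over (Spec (CommRingCat.of k))) [GrpObj G] [GrpObj H] [LocallyOfFiniteType G.hom]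
    (i : H ⟶ G) [IsMonHom i] [IsClosedImmersion i.left] [Smooth H.hom] [ConnectedSpace ↥H.left] [IsAffine H.left]
    (X : Over (Spec (CommRingCat.of k))) (a : AlgGrp.Action G X) (o : 𝟙_ (Over (Spec (CommRingCat.of k))) ⟶ X)
    (hX : AGF.IsQuotient i X a o)
    (σ : G ⟶ G) [IsMonHom σ] (τ : H ⟶ H) [IsMonHom τ] (hτ : τ ≫ i = i ≫ σ)
    (φ : X ⟶ X) (hφ : a.orbitMap o ≫ φ = σ ≫ a.orbitMap o)
    (hfin : Finite {g : 𝟙_ (Over (Spec (CommRingCat.of k))) ⟶ G // g ≫ σ = g}) :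
    Nat.card {g : 𝟙_ (Over (Spec (CommRingCat.of k))) ⟶ G // g ≫ σ = g} =
      Nat.card {h : 𝟙_ (Over (Spec (CommRingCat.of k))) ⟶ H // h ≫ τ = h} *
        Nat.card {x : 𝟙_ (Over (Spec (CommRingCat.of k))) ⟶ X // x ≫ φ = x} := by
  classical
  obtain ⟨hXft, -, hsurj, hpb⟩ := hX
  set π := a.orbitMap o with hπ
  have hmono : Mono i := by
    have : Mono i.left := inferInstance
    exact Over.mono_of_mono_left i
  have hint : AlgebraicGeometry.IsIntegral H.left := Groth.Agent.Sga3B.CellDim.isIntegral_of_connected_grp H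
  -- uniqueness
  have hinj : ∀ h h' : 𝟙_ (Over (Spec (CommRingCat.of k))) ⟶ H, h ≫ i = h' ≫ i → h = h' :=
    fun h h' e => (cancel_mono i).1 e
  have hmul : ∀ (g : 𝟙_ (Over (Spec (CommRingCat.of k))) ⟶ G) (h : 𝟙_ (Over (Spec (CommRingCat.of k))) ⟶ H),
      g * (h ≫ i) = lift g h ≫ (G ◁ i) ≫ μ[G] := by
    intro g h
    rw [← Category.assoc, lift_whiskerLeft]
    rfl
  have hcoset : ∀ g g' : 𝟙_ (Over (Spec (CommRingCat.of k))) ⟶ G, g ≫ π = g' ≫ π → ∃ h, g' = g * (h ≫ i) := by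
    intro g g' e
    refine ⟨hpb.lift g g' e ≫ snd G H, ?_⟩
    rw [hmul]
    have h1 : hpb.lift g g' e = lift g (hpb.lift g g' e ≫ snd G H) := by
      have h2 : hpb.lift g g' e ≫ fst G H = g := hpb.lift_fst g g' e
      conv_lhs => rw [← lift_comp_fst_snd (hpb.lift g g' e)]
      rw [h2]
    rw [← h1]
    exact (hpb.lift_snd g g' e).symm
  have hcoset' : ∀ (g : 𝟙_ (Over (Spec (CommRingCat.of k))) ⟶ G) (h : 𝟙_ (Over (Spec (CommRingCat.of k))) ⟶ H),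
      (g * (h ≫ i)) ≫ π = g ≫ π := by
    intro g h
    rw [hmul]
    have := congrArg (fun t => lift g h ≫ t) hpb.w
    simpa using this.symm
  have hσ : ∀ a b : 𝟙_ (Over (Spec (CommRingCat.of k))) ⟶ G, (a * b) ≫ σ = (a ≫ σ) * (b ≫ σ) :=
    fun a b => MonObj.mul_comp a b σ
  have hσ' : (1 : 𝟙_ (Over (Spec (CommRingCat.of k))) ⟶ G) ≫ σ = 1 := MonObj.one_comp σ
  have hσinv : ∀ a : 𝟙_ (Over (Spec (CommRingCat.of k))) ⟶ G, (a⁻¹) ≫ σ = (a ≫ σ)⁻¹ := by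
    intro a
    rw [eq_inv_iff_mul_eq_one, ← hσ, inv_mul_cancel, hσ']
  have hi : ∀ a b : 𝟙_ (Over (Spec (CommRingCat.of k))) ⟶ H, (a * b) ≫ i = (a ≫ i) * (b ≫ i) :=
    fun a b => MonObj.mul_comp a b i
  have hi' : (1 : 𝟙_ (Over (Spec (CommRingCat.of k))) ⟶ H) ≫ i = 1 := MonObj.one_comp i
  have hiinv : ∀ a : 𝟙_ (Over (Spec (CommRingCat.of k))) ⟶ H, (a⁻¹) ≫ i = (a ≫ i)⁻¹ := by
    intro a
    rw [eq_inv_iff_mul_eq_one, ← hi, inv_mul_cancel, hi']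
  have hiσ : ∀ a : 𝟙_ (Over (Spec (CommRingCat.of k))) ⟶ H, (a ≫ i) ≫ σ = (a ≫ τ) ≫ i := by
    intro a
    rw [Category.assoc, ← hτ, Category.assoc]
  -- finiteness of twisted fixed points
  have hfin' : {g : 𝟙_ (Over (Spec (CommRingCat.of k))) ⟶ G | g ≫ σ = g}.Finite := Set.finite_coe_iff.1 hfin
  have hlang : ∀ x : 𝟙_ (Over (Spec (CommRingCat.of k))) ⟶ X, x ≫ φ = x →
      ∃ g : 𝟙_ (Over (Spec (CommRingCat.of k))) ⟶ G, g ≫ σ = g ∧ g ≫ π = x := by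
    intro x hx
    obtain ⟨g, hg⟩ := exists_comp_eq_of_pt_mem_range π x (hsurj.surj _)
    have h1 : g ≫ π = (g ≫ σ) ≫ π := by
      rw [Category.assoc, ← hφ, ← Category.assoc, hg, hx]
    obtain ⟨h, hh⟩ := hcoset _ _ h1
    obtain ⟨y, hy⟩ := exists_lang τ h
      (Set.Finite.of_finite_image (f := fun y => y ≫ i) (hfin'.subset (by
        rintro _ ⟨y, hy, rfl⟩
        have hy' : y ≫ τ = y := hy
        change (y ≫ i) ≫ σ = y ≫ i
        rw [hiσ, hy'])) (fun y _ y' _ e => hinj y y' e))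
      (Set.Finite.of_finite_image (f := fun y => g * (y ≫ i) * g⁻¹) (hfin'.subset (by
        rintro _ ⟨y, hy, rfl⟩
        have hy' : h * (y ≫ τ) * h⁻¹ = y := hy
        change (g * (y ≫ i) * g⁻¹) ≫ σ = g * (y ≫ i) * g⁻¹
        rw [hσ, hσ, hσinv, hiσ, hh]
        conv_rhs => rw [← hy', hi, hi, hiinv]
        group)) (fun y _ y' _ e => hinj y y' (mul_left_cancel (mul_right_cancel e))))
    refine ⟨g * (y ≫ i), ?_, ?_⟩
    · rw [hσ, hiσ, hh, _root_.mul_assoc, ← hi]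
      have h2 : h * (y ≫ τ) = y := by
        conv_lhs => rw [hy]
        group
      rw [h2]
    · rw [hcoset', hg]
  choose s hs1 hs2 using hlang
  rw [← Nat.card_prod]
  symm
  refine Nat.card_eq_of_bijective (fun p : {h : 𝟙_ (Over (Spec (CommRingCat.of k))) ⟶ H // h ≫ τ = h} ×
    {x : 𝟙_ (Over (Spec (CommRingCat.of k))) ⟶ X // x ≫ φ = x} =>
      (⟨s p.2.1 p.2.2 * (p.1.1 ≫ i), by rw [hσ, hs1, hiσ, p.1.2]⟩ :
        {g : 𝟙_ (Over (Spec (CommRingCat.of k))) ⟶ G // g ≫ σ = g})) ⟨?_, ?_⟩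
  · rintro ⟨⟨h, hh⟩, ⟨x, hx⟩⟩ ⟨⟨h', hh'⟩, ⟨x', hx'⟩⟩ e
    have e1 : s x hx * (h ≫ i) = s x' hx' * (h' ≫ i) := congrArg Subtype.val e
    have e2 : x = x' := by
      have := congrArg (fun t => t ≫ π) e1
      simp only [hcoset', hs2] at this
      exact this
    subst e2
    have e3 : h = h' := hinj _ _ (mul_left_cancel e1)
    subst e3
    rfl
  · rintro ⟨g, hg⟩
    have hx : (g ≫ π) ≫ φ = g ≫ π := by
      rw [Category.assoc, hφ, ← Category.assoc, hg]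
    obtain ⟨h, hh⟩ := hcoset (s (g ≫ π) hx) g (hs2 _ hx)
    refine ⟨⟨⟨h, hinj _ _ ?_⟩, ⟨g ≫ π, hx⟩⟩, Subtype.ext hh.symm⟩
    rw [← hiσ]
    have h3 : h ≫ i = (s (g ≫ π) hx)⁻¹ * g := eq_inv_mul_iff_mul_eq.2 hh.symm
    rw [h3, hσ, hσinv, hs1, hg]

end K192.FixCount
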