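import Groth.Agent.HopfRep.K191.QuotRing
import Groth.Agent.InvQ.K701.Dim
import Groth.Agent.Books.AlgPts
import Groth.Prelude.Def_CoactBr

/-!
# Two endomorphisms with a finite fibre have a common value

`H` affine integral of finite type over an algebraically closed field; an endomorphism `f : H ⟶ H` with a finite
nonempty fibre is dominant.
-/

set_option autoImplicit false
universe u
open CategoryTheory MonoidalCategory CartesianMonoidalCategory AlgebraicGeometry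
open scoped MonObj

namespace K192.LangFin

variable {k : Type u} [Field k] [IsAlgClosed k]

section Ring

variable {A : Type u} [CommRing A] [IsDomain A] [Algebra k A] [Algebra.FiniteType k A]

theorem exists_open_of_finite (φ : A →ₐ[k] A) (g₀ : A →ₐ[k] k)
    (hfin : {g : A →ₐ[k] k | g.comp φ = g₀.comp φ}.Finite) :
    ∃ f : A, f ≠ 0 ∧ ∀ y : A →ₐ[k] k, y f ≠ 0 → ∃ g : A →ₐ[k] k, g.comp φ = y := by
  have hker : RingHom.ker φ = ⊥ := by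
    have hp : (RingHom.ker φ).IsPrime := RingHom.ker_isPrime _
    let ψ : (A ⧸ RingHom.ker φ) →ₐ[k] A := Ideal.kerLiftAlg φ
    have h1 : ringKrullDim A ≤ ringKrullDim (A ⧸ RingHom.ker φ) := by
      refine K701.Dim.ringKrullDim_le_of_finite ψ g₀ (hfin.subset ?_)
      intro g hg
      change g.comp φ = g₀.comp φ
      ext a
      have h2 := DFunLike.congr_fun hg (Ideal.Quotient.mk _ a)
      exact h2
    have h2 : ringKrullDim (A ⧸ (⊥ : Ideal A)) ≤ ringKrullDim (A ⧸ RingHom.ker φ) := by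
      rwa [ringKrullDim_eq_of_ringEquiv (RingEquiv.quotientBot A)]
    exact (K701.Dim.eq_of_le_of_ringKrullDim_le k bot_le h2).symm
  obtain ⟨f, hf, h⟩ := K701.Dim.exists_open_points φ (⊥ : Ideal A)
  refine ⟨f, ?_, fun y hy => h y ?_ hy⟩
  · rintro rfl
    exact hf (Ideal.zero_mem _)
  · intro b hb
    have h1 : b ∈ RingHom.ker φ := by
      have : φ b ∈ (⊥ : Ideal A) := hb
      simpa using this
    rw [hker, Ideal.mem_bot] at h1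
    rw [h1, map_zero]

theorem exists_common_ring (φ₁ φ₂ : A →ₐ[k] A) (g₁ g₂ : A →ₐ[k] k)
    (h₁ : {g : A →ₐ[k] k | g.comp φ₁ = g₁.comp φ₁}.Finite)
    (h₂ : {g : A →ₐ[k] k | g.comp φ₂ = g₂.comp φ₂}.Finite) :
    ∃ z₁ z₂ : A →ₐ[k] k, z₁.comp φ₁ = z₂.comp φ₂ := by
  obtain ⟨f₁, hf₁, H₁⟩ := exists_open_of_finite φ₁ g₁ h₁
  obtain ⟨f₂, hf₂, H₂⟩ := exists_open_of_finite φ₂ g₂ h₂
  have hne : f₁ * f₂ ≠ 0 := mul_ne_zero hf₁ hf₂
  obtain ⟨y, hy⟩ : ∃ y : A →ₐ[k] k, y (f₁ * f₂) ≠ 0 := by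
    by_contra hcon
    push Not at hcon
    have h3 : f₁ * f₂ ∈ (⊥ : Ideal A).radical :=
      K701.Basic.mem_radical_of_forall_point (k := k) _ _ fun g _ => hcon g
    rw [Ideal.IsPrime.radical inferInstance, Ideal.mem_bot] at h3
    exact hne h3
  rw [map_mul] at hy
  obtain ⟨z₁, hz₁⟩ := H₁ y (left_ne_zero_of_mul hy)
  obtain ⟨z₂, hz₂⟩ := H₂ y (right_ne_zero_of_mul hy)
  exact ⟨z₁, z₂, hz₁.trans hz₂.symm⟩

end Ring

/-- the unit object and `Spec k` -/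
noncomputable def u₀ : 𝟙_ (Over (Spec (CommRingCat.of k))) ≅ CoactBr.sp k k :=
  Over.isoMk (Iso.refl _) (by
    change 𝟙 _ ≫ Spec.map (CommRingCat.ofHom (algebraMap k k)) = 𝟙 _
    rw [Category.id_comp]
    exact Spec.map_id _)

theorem exists_common {H : Over (Spec (CommRingCat.of k))} [IsAffine H.left] [AlgebraicGeometry.IsIntegral H.left]
    [LocallyOfFiniteType H.hom] (f₁ f₂ : H ⟶ H) (y₁ y₂ : 𝟙_ (Over (Spec (CommRingCat.of k))) ⟶ H)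
    (h₁ : {y : 𝟙_ (Over (Spec (CommRingCat.of k))) ⟶ H | y ≫ f₁ = y₁ ≫ f₁}.Finite)
    (h₂ : {y : 𝟙_ (Over (Spec (CommRingCat.of k))) ⟶ H | y ≫ f₂ = y₂ ≫ f₂}.Finite) :
    ∃ z₁ z₂ : 𝟙_ (Over (Spec (CommRingCat.of k))) ⟶ H, z₁ ≫ f₁ = z₂ ≫ f₂ := by
  obtain ⟨A, _, _, ⟨e⟩⟩ := K191.QuotRing.exists_sp_iso H
  let eL : H.left ≅ Spec (CommRingCat.of A) := (Over.forget _).mapIso e
  have hne : Nonempty (Spec (CommRingCat.of A)) := ⟨eL.hom (Classical.arbitrary H.left)⟩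
  have hint : AlgebraicGeometry.IsIntegral (Spec (CommRingCat.of A)) :=
    isIntegral_of_isOpenImmersion eL.inv
  have hdom : IsDomain A := (affine_isIntegral_iff (CommRingCat.of A)).1 hint
  have hft : Algebra.FiniteType k A := by
    have h1 : LocallyOfFiniteType (Spec.map (CommRingCat.ofHom (algebraMap k A))) := by
      have h2 : Spec.map (CommRingCat.ofHom (algebraMap k A)) = eL.inv ≫ H.hom := (Over.w e.inv).symm
      rw [h2]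
      infer_instance
    have h3 := (HasRingHomProperty.Spec_iff (P := @LocallyOfFiniteType)).1 h1
    exact (RingHom.finiteType_algebraMap).mp h3
  obtain ⟨φ₁, hφ₁⟩ := K191.QuotRing.exists_pt (e.inv ≫ f₁ ≫ e.hom)
  obtain ⟨φ₂, hφ₂⟩ := K191.QuotRing.exists_pt (e.inv ≫ f₂ ≫ e.hom)
  have key : ∀ y : 𝟙_ (Over (Spec (CommRingCat.of k))) ⟶ H, ∃ g : A →ₐ[k] k,
      y = u₀.hom ≫ CoactBr.pt g ≫ e.inv := by
    intro y
    obtain ⟨g, hg⟩ := K191.QuotRing.exists_pt (u₀.inv ≫ y ≫ e.hom)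
    exact ⟨g, by rw [hg]; simp⟩
  have hcomp : ∀ (g : A →ₐ[k] k) (φ : A →ₐ[k] A) (f : H ⟶ H), CoactBr.pt φ = e.inv ≫ f ≫ e.hom →
      (u₀.hom ≫ CoactBr.pt g ≫ e.inv) ≫ f = u₀.hom ≫ CoactBr.pt (g.comp φ) ≫ e.inv := by
    intro g φ f hf
    rw [CoactBr.pt_comp, hf]
    simp
  have hinj : ∀ g g' : A →ₐ[k] k, u₀.hom ≫ CoactBr.pt g ≫ e.inv = u₀.hom ≫ CoactBr.pt g' ≫ e.inv → g = g' := by
    intro g g' h
    have h1 : CoactBr.pt g = CoactBr.pt g' := by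
      have := congrArg (fun t => u₀.inv ≫ t ≫ e.hom) h
      simpa using this
    exact CoactBr.pt_injective h1
  obtain ⟨g₁, hg₁⟩ := key y₁
  obtain ⟨g₂, hg₂⟩ := key y₂
  have hfin : ∀ (φ : A →ₐ[k] A) (f : H ⟶ H) (hf : CoactBr.pt φ = e.inv ≫ f ≫ e.hom) (g : A →ₐ[k] k)
      (y : 𝟙_ (Over (Spec (CommRingCat.of k))) ⟶ H) (hy : y = u₀.hom ≫ CoactBr.pt g ≫ e.inv)
      (hY : {y' : 𝟙_ (Over (Spec (CommRingCat.of k))) ⟶ H | y' ≫ f = y ≫ f}.Finite),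
      {g' : A →ₐ[k] k | g'.comp φ = g.comp φ}.Finite := by
    intro φ f hf g y hy hY
    refine Set.Finite.of_finite_image (f := fun g' => u₀.hom ≫ CoactBr.pt g' ≫ e.inv) (hY.subset ?_)
      (fun g' _ g'' _ h => hinj g' g'' h)
    rintro _ ⟨g', hg', rfl⟩
    change (u₀.hom ≫ CoactBr.pt g' ≫ e.inv) ≫ f = y ≫ f
    rw [hy, hcomp _ _ _ hf, hcomp _ _ _ hf, show g'.comp φ = g.comp φ from hg']
  obtain ⟨z₁, z₂, hz⟩ := exists_common_ring φ₁ φ₂ g₁ g₂ (hfin φ₁ f₁ hφ₁ g₁ y₁ hg₁ h₁)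
    (hfin φ₂ f₂ hφ₂ g₂ y₂ hg₂ h₂)
  exact ⟨u₀.hom ≫ CoactBr.pt z₁ ≫ e.inv, u₀.hom ≫ CoactBr.pt z₂ ≫ e.inv, by
    rw [hcomp _ _ _ hφ₁, hcomp _ _ _ hφ₂, hz]⟩

/-- The Lang map of a homomorphism `τ : H ⟶ H` hits `h` as soon as `τ` and `int(h) τ` have finitely many fixed
points. -/
theorem exists_lang {H : Over (Spec (CommRingCat.of k))} [GrpObj H] [IsAffine H.left]
    [AlgebraicGeometry.IsIntegral H.left] [LocallyOfFiniteType H.hom] (τ : H ⟶ H) [IsMonHom τ]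
    (h : 𝟙_ (Over (Spec (CommRingCat.of k))) ⟶ H)
    (h₁ : {y : 𝟙_ (Over (Spec (CommRingCat.of k))) ⟶ H | y ≫ τ = y}.Finite)
    (h₂ : {y : 𝟙_ (Over (Spec (CommRingCat.of k))) ⟶ H | h * (y ≫ τ) * h⁻¹ = y}.Finite) :
    ∃ y : 𝟙_ (Over (Spec (CommRingCat.of k))) ⟶ H, h = y * (y ≫ τ)⁻¹ := by
  let F : (𝟙_ (Over (Spec (CommRingCat.of k))) ⟶ H) → (H ⟶ H) := fun c => 𝟙 H * (toUnit H ≫ c) * (τ)⁻¹
  have hF : ∀ c y : 𝟙_ (Over (Spec (CommRingCat.of k))) ⟶ H, y ≫ F c = y * c * (y ≫ τ)⁻¹ := by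
    intro c y
    have h3 : y ≫ toUnit H = 𝟙 _ := toUnit_unique _ _
    simp only [F, MonObj.comp_mul, GrpObj.comp_inv, Category.comp_id]
    rw [reassoc_of% h3]
  have hτ : ∀ a b : 𝟙_ (Over (Spec (CommRingCat.of k))) ⟶ H, (a * b) ≫ τ = (a ≫ τ) * (b ≫ τ) :=
    fun a b => MonObj.mul_comp a b τ
  have hτ' : (1 : 𝟙_ (Over (Spec (CommRingCat.of k))) ⟶ H) ≫ τ = 1 := MonObj.one_comp τ
  obtain ⟨z₁, z₂, hz⟩ := exists_common (F 1) (F h) 1 1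
    (h₁.subset (by
      intro y hy
      have h3 : y ≫ F 1 = 1 ≫ F 1 := hy
      rw [hF, hF, hτ', mul_one, mul_one, inv_one, mul_one] at h3
      exact (mul_inv_eq_one.1 h3).symm))
    (h₂.subset (by
      intro y hy
      have h3 : y ≫ F h = 1 ≫ F h := hy
      rw [hF, hF, hτ', one_mul, inv_one, mul_one] at h3
      change h * (y ≫ τ) * h⁻¹ = y
      rw [mul_inv_eq_iff_eq_mul] at h3
      rw [← h3, mul_assoc, mul_inv_cancel, mul_one]))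
  rw [hF, hF, mul_one] at hz
  -- z₁ (z₁ τ)⁻¹ = z₂ h (z₂ τ)⁻¹
  refine ⟨z₂⁻¹ * z₁, ?_⟩
  have hinv : (z₂⁻¹) ≫ τ = (z₂ ≫ τ)⁻¹ := by
    rw [eq_inv_iff_mul_eq_one, ← hτ, inv_mul_cancel, hτ']
  rw [hτ, hinv, mul_inv_rev, inv_inv, mul_assoc z₂⁻¹, ← mul_assoc z₁, hz]
  group

end K192.LangFin
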